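import Groth.Agent.Surf.K461.SerreLF
import Groth.Agent.Surf.K457.Smooth
import Groth.Agent.Fga.HodgeSec
import Groth.Agent.S3664
import Groth.Agent.Sga2.PnHomAdj
import Groth.Agent.CohqB.HomPost
import Groth.Agent.PerfA.FieldSch
import Groth.Agent.Coherent.K47.GenFree
import Groth.Agent.PerfA.PerfLocal

/-!
# Pro-vanishing of the cohomology of `I^m M` on a smooth proper scheme

`X` proper over a field `k`, smooth of relative dimension `n`, `I` an ideal with complement `U` of cohomological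
dimension `< r`, `M` finite locally free, `q + r ≤ n`.

* `exists_map_eq_zero`: for every `m` there is `m' ≥ m` such that `H^q(X, I^m' M) → H^q(X, I^m M)` is zero.
-/

set_option autoImplicit false

universe u

open CategoryTheory CategoryTheory.Limits AlgebraicGeometry

attribute [local instance] HasDerivedCategory.standard

namespace K240.ProVan

open Groth.Agent Groth.Agent.CurvesC Groth.Agent.CurvesC.RepX Groth.Agent.CurvesC.DualLin

attribute [local instance] LinMod.linearModules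

/-- `Hom_D(E, W[m]) = 0` for `E` finite locally free, `W` quasi-coherent and `H^m = 0` on quasi-coherent modules. -/
theorem subsingleton_hom (k : Type u) [Field k] {U : Scheme.{u}} [U.Over (Spec (CommRingCat.of k))] {E W : U.Modules}
    (hE : FlatMod.IsFinLocFree E) (hW : Coh.IsQCoh W) (m : ℕ)
    (hH : ∀ F : U.Modules, Coh.IsQCoh F → Subsingleton (Coh.HH U F m)) :
    Subsingleton (DCoh.inD U E ⟶ (DCoh.inD U W)⟦(m : ℤ)⟧) := by
  have i1 : DCoh.HasSheafHom E := Sga2.PnHomAdj.hasSheafHom E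
  obtain ⟨e⟩ := K461.DualLF.nonempty_hom_equiv k hE W m
  have h1 : Coh.IsQCoh ((DCoh.sheafHom E).obj W) :=
    PerfA.QCohSerre.isQCoh_of_iso ((Sga2.PnHomAdj.sheafHomIso E).symm.app W)
      (CohqB.HomPost.isQCoh_homSheaf_of_isFinLocFree hE hW)
  have h2 := hH _ h1
  have h3 : Subsingleton (HV U ((DCoh.sheafHom E).obj W) m) := (HV.equiv k _ m).toEquiv.subsingleton
  exact e.toEquiv.subsingleton

section Single

variable {X : Scheme.{u}} (I : X.IdealSheafData) (M : X.Modules)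

/-- The Deligne system of a module in degree `0`. -/
noncomputable def κ (m : ℕ) : (CochainComplex.singleFunctor X.Modules 0).obj ((Dual3.idealMul (I ^ m)).obj M) ≅
    (Dual3.deligne I m).obj ((CochainComplex.singleFunctor X.Modules 0).obj M) :=
  ((HomologicalComplex.singleMapHomologicalComplex (Dual3.idealMul (I ^ m)) (ComplexShape.up ℤ) 0).app M).symm

theorem κ_ι (m : ℕ) : (κ I M m).hom ≫ Dual3.deligneι I m _ =
    (CochainComplex.singleFunctor X.Modules 0).map (Dual3.idealMulι (I ^ m) M) := by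
  apply HomologicalComplex.from_single_hom_ext
  change ((HomologicalComplex.singleMapHomologicalComplex (Dual3.idealMul (I ^ m)) (ComplexShape.up ℤ) 0).inv.app M).f 0
    ≫ Dual3.idealMulι (I ^ m) (((HomologicalComplex.single X.Modules (ComplexShape.up ℤ) 0).obj M).X 0) =
    ((HomologicalComplex.single X.Modules (ComplexShape.up ℤ) 0).map (Dual3.idealMulι (I ^ m) M)).f 0
  rw [HomologicalComplex.singleMapHomologicalComplex_inv_app_self, HomologicalComplex.single_map_f_self]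
  refine (Category.assoc _ _ _).trans ?_
  exact congrArg (fun z => (HomologicalComplex.singleObjXSelf (ComplexShape.up ℤ) 0
    ((Dual3.idealMul (I ^ m)).obj M)).hom ≫ z)
    (Dual3.idealMul_map_ι (I ^ m) (HomologicalComplex.singleObjXSelf (ComplexShape.up ℤ) 0 M).inv)

end Single


section Dies

variable {X : Scheme.{u}}

theorem disjoint_support_pow (I : X.IdealSheafData) (U : X.Opens) (hU : (U : Set X) = (I.support : Set X)ᶜ) (n : ℕ) :
    Disjoint ((I ^ n).support : Set X) (Set.range U.ι) := by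
  rw [Scheme.Opens.range_ι, hU]
  rcases Nat.eq_zero_or_pos n with hn | hn
  · subst hn
    have : ((I ^ 0).support : Set X) = ∅ := by
      rw [pow_zero, Scheme.IdealSheafData.one_eq_top, Scheme.IdealSheafData.support_top]
      rfl
    rw [this]
    exact Set.empty_disjoint _
  · rw [Scheme.IdealSheafData.support_pow I n hn.ne']
    exact disjoint_compl_right

/-- The restriction of a module in degree `0`. -/
noncomputable def restrictInD {U : Scheme.{u}} (f : U ⟶ X) [IsOpenImmersion f]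
    [PreservesFiniteLimits (Scheme.Modules.restrictFunctor f)] (M : X.Modules) :
    (DCoh.restrictD f).obj (DCoh.inD X M) ≅ DCoh.inD U (M.restrict f) :=
  ((Scheme.Modules.restrictFunctor f).mapDerivedCategorySingleFunctor 0).app M

variable (k : Type u) [Field k] (I : X.IdealSheafData) (U : X.Opens)
  [(↑U : Scheme.{u}).Over (Spec (CommRingCat.of k))]
  (hU : (U : Set X) = (I.support : Set X)ᶜ) {M W : X.Modules} (hM : FlatMod.IsFinLocFree M) (hW : Coh.IsCoh W)

include k hU hM hW in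
theorem subsingleton_hom_restrict (j : ℕ)
    (hcd : ∀ F : (↑U : Scheme.{u}).Modules, Coh.IsQCoh F → Subsingleton (Coh.HH ↑U F j)) (m : ℕ)
    [PreservesFiniteLimits (Scheme.Modules.restrictFunctor U.ι)] :
    Subsingleton ((DCoh.restrictD U.ι).obj (DCoh.inD X ((Dual3.idealMul (I ^ m)).obj M)) ⟶
      (DCoh.restrictD U.ι).obj ((DCoh.inD X W)⟦(j : ℤ)⟧)) := by
  have hMq : Coh.IsQCoh M := Ega2.QCohLocal.isQCoh_of_isFinLocFree hM
  have h1 : IsIso ((Scheme.Modules.restrictFunctor U.ι).map (Dual3.idealMulι (I ^ m) M)) :=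
    Coherent.K47.GenFree.isIso_restrict_idealMulι (I ^ m) U.ι (disjoint_support_pow I U hU m) hMq
  have h2 := subsingleton_hom k (E := M.restrict U.ι) (W := W.restrict U.ι)
    (PerfA.PerfLocal.isFinLocFree_restrict U.ι hM) (Groth.Agent.CohqB.LocalQC.isQCoh_restrict U.ι hW.1) j hcd
  let e1 : (DCoh.restrictD U.ι).obj (DCoh.inD X ((Dual3.idealMul (I ^ m)).obj M)) ≅
      DCoh.inD (↑U : Scheme.{u}) (M.restrict U.ι) :=
    restrictInD U.ι _ ≪≫ (DerivedCategory.singleFunctor _ 0).mapIso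
      (asIso ((Scheme.Modules.restrictFunctor U.ι).map (Dual3.idealMulι (I ^ m) M)))
  let e2 : (DCoh.restrictD U.ι).obj ((DCoh.inD X W)⟦(j : ℤ)⟧) ≅
      (DCoh.inD (↑U : Scheme.{u}) (W.restrict U.ι))⟦(j : ℤ)⟧ :=
    ((DCoh.restrictD U.ι).commShiftIso (j : ℤ)).app _ ≪≫
      (shiftFunctor (DCoh.D (↑U : Scheme.{u})) (j : ℤ)).mapIso (restrictInD U.ι W)
  exact (Iso.homCongr e1 e2).subsingleton

variable [IsNoetherian X]

include k hU hM hW in
/-- Every map `I^m M ⟶ W[j]` dies on `I^m' M` for large `m'`. -/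
theorem exists_dies (j : ℕ)
    (hcd : ∀ F : (↑U : Scheme.{u}).Modules, Coh.IsQCoh F → Subsingleton (Coh.HH ↑U F j)) (m : ℕ)
    (φ : DCoh.inD X ((Dual3.idealMul (I ^ m)).obj M) ⟶ (DCoh.inD X W)⟦(j : ℤ)⟧) :
    ∃ m' : ℕ, m ≤ m' ∧ ∀ t : (Dual3.idealMul (I ^ m')).obj M ⟶ (Dual3.idealMul (I ^ m)).obj M,
      t ≫ Dual3.idealMulι (I ^ m) M = Dual3.idealMulι (I ^ m') M →
        (DerivedCategory.singleFunctor X.Modules 0).map t ≫ φ = 0 := by
  have hres : ∀ (U V : Scheme.{u}) (j : U ⟶ V) [IsOpenImmersion j],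
    PreservesFiniteLimits (Scheme.Modules.restrictFunctor j) := fun _ _ _ _ => inferInstance
  have hlU : IsLocallyNoetherian (↑U : Scheme.{u}) := inferInstance
  have hcU : CompactSpace (↑U : Scheme.{u}) := by
    have : CompactSpace (U : Set X) := isCompact_iff_compactSpace.mp (TopologicalSpace.NoetherianSpace.isCompact _)
    exact this
  have hNU : IsNoetherian (↑U : Scheme.{u}) := {}
  have hI : I.supportSetᶜ = Set.range U.ι := by
    rw [Scheme.Opens.range_ι]
    exact hU.symm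
  have hMc : Coh.IsCoh M := PerfA.CohSerre.isCoh_of_isFinLocFree hM
  have hs := subsingleton_hom_restrict k I U hU hM hW j hcd m
  let F : CochainComplex X.Modules ℤ := (CochainComplex.singleFunctor X.Modules 0).obj M
  have hF : DCoh.VanishesOutside F 0 0 := by
    intro i hi
    refine HomologicalComplex.isZero_single_obj_X _ _ _ _ ?_
    omega
  have hFc : ∀ q : ℤ, Coh.IsCoh (F.X q) := by
    intro q
    by_cases hq : q = 0
    · subst hq
      exact PerfA.CohSerre.isCoh_of_iso (HomologicalComplex.singleObjXSelf (ComplexShape.up ℤ) 0 M).symm hMc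
    · exact PerfA.CohSerre.isCoh_of_isZero (hF q (by omega))
  have hL1 : DCoh.IsCohD ((DCoh.inD X W)⟦(j : ℤ)⟧) := PerfA.QCohD.isCohD_shift (PerfA.QCohD.isCohD_inD W hW) _
  have hL2 : ∀ i : ℤ, i < -(j : ℤ) → IsZero (DCoh.HD ((DCoh.inD X W)⟦(j : ℤ)⟧) i) := by
    intro i hi
    have h1 : (DCoh.inD X W).IsGE 0 := inferInstance
    have h2 : ((DCoh.inD X W)⟦(j : ℤ)⟧).IsGE (-(j : ℤ)) :=
      DerivedCategory.TStructure.t.isGE_shift _ 0 (j : ℤ) (-(j : ℤ)) (by lia)
    exact DerivedCategory.isZero_of_isGE _ _ i hi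
  let κ' := DerivedCategory.Q.mapIso (κ I M m)
  have key := (S3664.result (↑U : Scheme.{u}) X U.ι I hI F 0 0 hF hFc ((DCoh.inD X W)⟦(j : ℤ)⟧)
    hL1 (-(j : ℤ)) hL2).2 m (κ'.inv ≫ φ) 0 ?_
  · obtain ⟨m', hm', h⟩ := key
    refine ⟨m', hm', fun t ht => ?_⟩
    have h3 := h ((κ I M m').inv ≫ (CochainComplex.singleFunctor X.Modules 0).map t ≫ (κ I M m).hom) (by
      rw [Category.assoc, Category.assoc, κ_ι, ← Functor.map_comp, ht, ← κ_ι, Iso.inv_hom_id_assoc])
    rw [comp_zero, Functor.map_comp, Functor.map_comp, Category.assoc, Category.assoc] at h3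
    have h4 : DerivedCategory.Q.map ((CochainComplex.singleFunctor X.Modules 0).map t) ≫
        DerivedCategory.Q.map (κ I M m).hom ≫ κ'.inv ≫ φ = 0 := by
      rw [← cancel_epi (DerivedCategory.Q.map (κ I M m').inv), comp_zero]
      exact h3
    have h5 : DerivedCategory.Q.map (κ I M m).hom ≫ κ'.inv ≫ φ = φ := Iso.hom_inv_id_assoc κ' φ
    rw [h5] at h4
    exact h4
  · have hs' : Subsingleton ((DCoh.restrictD U.ι).obj (DerivedCategory.Q.obj
      ((CochainComplex.singleFunctor X.Modules 0).obj ((Dual3.idealMul (I ^ m)).obj M))) ⟶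
      (DCoh.restrictD U.ι).obj ((DCoh.inD X W)⟦(j : ℤ)⟧)) := hs
    have : Subsingleton ((DCoh.restrictD U.ι).obj (DCoh.toD X ((Dual3.deligne I m).obj F)) ⟶
      (DCoh.restrictD U.ι).obj ((DCoh.inD X W)⟦(j : ℤ)⟧)) :=
      (Iso.homCongr ((DCoh.restrictD U.ι).mapIso κ') (Iso.refl _)).symm.subsingleton
    exact Subsingleton.elim _ _

end Dies

section Main

variable (k : Type u) [Field k] {X : Scheme.{u}} [X.Over (Spec (CommRingCat.of k))]

/-- If `t : F' ⟶ F` dies in every `Hom_D(-, W[j])`, `j + q = n`, and `(W, n)` is dualizing, then `H^q(t) = 0`. -/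
theorem map_eq_zero_of_dies {W : X.Modules} {n : ℕ} (τ : (P X ⟶ (DCoh.inD X W)⟦(n : ℤ)⟧) →ₗ[k] k)
    (hτ : ∀ K : DCoh.D X, DCoh.IsQCohD K → Function.Bijective (pairing k X τ K)) {F' F : X.Modules}
    (hF : Coh.IsQCoh F) (t : F' ⟶ F) (j q : ℕ) (h : j + q = n)
    (ht : ∀ φ : DCoh.inD X F ⟶ (DCoh.inD X W)⟦(j : ℤ)⟧,
      (DerivedCategory.singleFunctor X.Modules 0).map t ≫ φ = 0) (x : Coh.HH X F' q) :
    Sheaf.H.map ((SheafOfModules.toSheaf X.ringCatSheaf).map t) q x = 0 := by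
  obtain ⟨s, hs⟩ := (homHVₗ k X F' q).surjective ((HV.equiv k F' q).symm x)
  have h1 : s ≫ ((DerivedCategory.singleFunctor X.Modules 0).map t)⟦(q : ℤ)⟧' = 0 := by
    rw [← Module.forall_dual_apply_eq_zero_iff k]
    intro ψ
    obtain ⟨φ, rfl⟩ := (hτ ((DCoh.inD X F)⟦(q : ℤ)⟧)
      (PerfA.QCohD.isQCohD_shift (PerfA.QCohD.isQCohD_inD F hF) (q : ℤ))).2 ψ
    rw [pairing_apply, Category.assoc]
    obtain ⟨φ₀, rfl⟩ := (K461.DualAbs.homShiftE k F W (j : ℤ) (q : ℤ) (n : ℤ) (by lia)).surjective φ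
    have h2 : ((DerivedCategory.singleFunctor X.Modules 0).map t)⟦(q : ℤ)⟧' ≫
        K461.DualAbs.homShiftE k F W (j : ℤ) (q : ℤ) (n : ℤ) (by lia) φ₀ = 0 := by
      change ((DerivedCategory.singleFunctor X.Modules 0).map t)⟦(q : ℤ)⟧' ≫
        ((𝟙 _ ≫ φ₀⟦(q : ℤ)⟧') ≫ (shiftFunctorAdd' (DCoh.D X) (j : ℤ) (q : ℤ) (n : ℤ) (by lia)).inv.app _) = 0
      rw [Category.id_comp, ← Category.assoc, ← Functor.map_comp, ht φ₀, Functor.map_zero, zero_comp]
    rw [h2, comp_zero, map_zero]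
  have h3 := homHVₗ_map k X t q s
  rw [h1, map_zero, hs] at h3
  have h4 := HV.equiv_map k t q ((HV.equiv k F' q).symm x)
  rw [← h3, map_zero, LinearEquiv.apply_symm_apply] at h4
  exact h4.symm

/-- **Pro-vanishing**: `X` proper over `k`, smooth of relative dimension `n`, `U` the complement of `V(I)`, of
cohomological dimension `< r`, `M` finite locally free and `q + r ≤ n`: for every `m` the map
`H^q(X, I^m' M) → H^q(X, I^m M)` is zero for some `m' ≥ m`. -/
theorem exists_map_eq_zero_over [IsProper (X ↘ Spec (CommRingCat.of k))] (n : ℕ)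
    [SmoothOfRelativeDimension n (X ↘ Spec (CommRingCat.of k))]
    (I : X.IdealSheafData) (U : X.Opens) (hU : (U : Set X) = (I.support : Set X)ᶜ) (r : ℕ)
    (hcd : ∀ (F : (↑U : Scheme.{u}).Modules), Coh.IsQCoh F → ∀ q : ℕ, r ≤ q → Subsingleton (Coh.HH ↑U F q))
    (M : X.Modules) (hM : FlatMod.IsFinLocFree M) (q m : ℕ) (hq : q + r ≤ n) :
    ∃ m' : ℕ, m ≤ m' ∧ ∀ t : (Dual3.idealMul (I ^ m')).obj M ⟶ (Dual3.idealMul (I ^ m)).obj M,
      t ≫ Dual3.idealMulι (I ^ m) M = Dual3.idealMulι (I ^ m') M →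
        ∀ x : Coh.HH X ((Dual3.idealMul (I ^ m')).obj M) q,
          Sheaf.H.map ((SheafOfModules.toSheaf X.ringCatSheaf).map t) q x = 0 := by
  have hlN : IsLocallyNoetherian X := LocallyOfFiniteType.isLocallyNoetherian (X ↘ Spec (CommRingCat.of k))
  have hcX : CompactSpace X := QuasiCompact.compactSpace_of_compactSpace (X ↘ Spec (CommRingCat.of k))
  have hN : IsNoetherian X := {}
  let iU : (↑U : Scheme.{u}).Over (Spec (CommRingCat.of k)) := ⟨U.ι ≫ (X ↘ Spec (CommRingCat.of k))⟩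
  obtain ⟨W, hW1, hW2, -⟩ := K457.Smooth.exists_canonical k X n
  obtain ⟨τ, hτ⟩ := K461.SerreDual.exists_form k X n W hW2
  have hW : Coh.IsCoh W := PerfA.CohSerre.isCoh_of_isFinLocFree fun x => by
    obtain ⟨U, hx, ⟨e⟩⟩ := hW1 x
    exact ⟨U, 1, hx, ⟨e ≪≫ (coproductUniqueIso
      (fun _ : Fin 1 => Coh.structureModule (U : Scheme.{u}))).symm⟩⟩
  have hMc : Coh.IsCoh M := PerfA.CohSerre.isCoh_of_isFinLocFree hM
  let K : ℕ → X.Modules := fun m => (Dual3.idealMul (I ^ m)).obj M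
  have hK : ∀ m, Coh.IsCoh (K m) := fun m => Dual.H367.IdMul.isCoh_idealMul _ hMc
  obtain ⟨j, hj⟩ : ∃ j, j + q = n := ⟨n - q, by omega⟩
  have hfin : Module.Finite k (DCoh.inD X (K m) ⟶ (DCoh.inD X W)⟦(j : ℤ)⟧) := by
    obtain ⟨e⟩ := K461.DualAbs.dual_equiv_hom k (F := K m) j q n hj τ (hτ _
      (PerfA.QCohD.isQCohD_shift (PerfA.QCohD.isQCohD_inD _ (hK m).1) (q : ℤ)))
    have h1 : Module.Finite k (Coh.HH X (K m) q) := Fga.HodgeSec.finite_HH' k (hK m) q
    have h2 : Module.Finite k (HV X (K m) q) := Module.Finite.equiv (HV.equiv k (K m) q).symm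
    have h3 : Module.Finite k (Module.Dual k (HV X (K m) q)) := inferInstance
    exact Module.Finite.equiv e.symm
  obtain ⟨S, hS⟩ := hfin.fg_top
  have hd : ∀ φ : DCoh.inD X (K m) ⟶ (DCoh.inD X W)⟦(j : ℤ)⟧, ∃ m' : ℕ, m ≤ m' ∧
      ∀ t : K m' ⟶ K m, t ≫ Dual3.idealMulι (I ^ m) M = Dual3.idealMulι (I ^ m') M →
        (DerivedCategory.singleFunctor X.Modules 0).map t ≫ φ = 0 :=
    fun φ => exists_dies k I U hU hM hW j (fun F hF => hcd F hF j (by omega)) m φ
  choose μ hμ1 hμ2 using hd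
  let m' := m + S.sup μ
  refine ⟨m', Nat.le_add_right _ _, fun t ht x => ?_⟩
  refine map_eq_zero_of_dies k τ hτ (hK m).1 t j q hj ?_ x
  have key : ∀ φ ∈ S, (DerivedCategory.singleFunctor X.Modules 0).map t ≫ φ = 0 := by
    intro φ hφ
    have hle : μ φ ≤ m' := (Finset.le_sup (f := μ) hφ).trans (Nat.le_add_left _ _)
    let a := Dual.H367.IdMul.tr (Dual.H367.Kill.pow_le I hle) M
    let b := Dual.H367.IdMul.tr (Dual.H367.Kill.pow_le I (hμ1 φ)) M
    have hab : t = a ≫ b := by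
      rw [← cancel_mono (Dual3.idealMulι (I ^ m) M), ht, Category.assoc, Dual.H367.IdMul.tr_ι,
        Dual.H367.IdMul.tr_ι]
    rw [hab, Functor.map_comp, Category.assoc, hμ2 φ b (Dual.H367.IdMul.tr_ι _ _), comp_zero]
  intro φ
  have h1 : φ ∈ Submodule.span k (S : Set (DCoh.inD X (K m) ⟶ (DCoh.inD X W)⟦(j : ℤ)⟧)) := by
    rw [hS]
    trivial
  refine Submodule.span_induction (fun x hx => key x hx) comp_zero (fun x y _ _ hx hy => ?_) (fun a x _ hx => ?_) h1
  · rw [Preadditive.comp_add, hx, hy, add_zero]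
  · rw [Linear.comp_smul, hx, smul_zero]

end Main

/-- The same for a morphism `g : X ⟶ Spec k`. -/
theorem exists_map_eq_zero (k : Type u) [Field k] (X : Scheme.{u}) (g : X ⟶ Spec (CommRingCat.of k)) [IsProper g]
    (n : ℕ) [SmoothOfRelativeDimension n g]
    (I : X.IdealSheafData) (U : X.Opens) (hU : (U : Set X) = (I.support : Set X)ᶜ) (r : ℕ)
    (hcd : ∀ (F : (↑U : Scheme.{u}).Modules), Coh.IsQCoh F → ∀ q : ℕ, r ≤ q → Subsingleton (Coh.HH ↑U F q))
    (M : X.Modules) (hM : FlatMod.IsFinLocFree M) (q m : ℕ) (hq : q + r ≤ n) :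
    ∃ m' : ℕ, m ≤ m' ∧ ∀ t : (Dual3.idealMul (I ^ m')).obj M ⟶ (Dual3.idealMul (I ^ m)).obj M,
      t ≫ Dual3.idealMulι (I ^ m) M = Dual3.idealMulι (I ^ m') M →
        ∀ x : Coh.HH X ((Dual3.idealMul (I ^ m')).obj M) q,
          Sheaf.H.map ((SheafOfModules.toSheaf X.ringCatSheaf).map t) q x = 0 := by
  let _ : X.Over (Spec (CommRingCat.of k)) := ⟨g⟩
  have h1 : IsProper (X ↘ Spec (CommRingCat.of k)) := inferInstanceAs (IsProper g)
  have h2 : SmoothOfRelativeDimension n (X ↘ Spec (CommRingCat.of k)) :=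
    inferInstanceAs (SmoothOfRelativeDimension n g)
  exact exists_map_eq_zero_over k n I U hU r hcd M hM q m hq

end K240.ProVan
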